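import Groth.Agent.FlatOpen.MapOpen
import Groth.Agent.FlatOpen.FibreLocal
import Groth.Agent.DRing.Homology
import Groth.Prelude.Def_CAlgX

/-!
# Fibrewise exactness over local rings essentially of finite presentation
-/

set_option autoImplicit false
universe u
open IsLocalRing Function
open scoped Pointwise

namespace Groth.Agent.DRing.KoszulLift

variable {R A : Type u} [CommRing R] [IsLocalRing R] [CommRing A] [IsLocalRing A] [Algebra R A]
  [IsLocalHom (algebraMap R A)]

/-- The extension of the maximal ideal of the base. -/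
local notation "mA" => Ideal.map (algebraMap R A) (IsLocalRing.maximalIdeal R)

lemma mA_le : mA ≤ maximalIdeal A := by
  rw [Ideal.map_le_iff_le_comap]
  intro x hx
  exact fun h => hx (isUnit_of_map_unit (algebraMap R A) x h)

/-- A map into a flat module which is injective on the fibre is injective with flat cokernel. -/
theorem injective_coker_flat (hefp : CAlgX.IsEssFinitePresentation R A)
    {N M : Type u} [AddCommGroup N] [Module A N] [Module.FinitePresentation A N]
    [AddCommGroup M] [Module A M] [Module R M] [IsScalarTower R A M] [Module.FinitePresentation A M]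
    [Module.Flat R M] (u : N →ₗ[A] M)
    (h : ∀ n, u n ∈ mA • (⊤ : Submodule A M) → n ∈ mA • (⊤ : Submodule A N)) :
    Injective u ∧ Module.Flat R (M ⧸ LinearMap.range u) := by
  obtain ⟨S₀, _, _, _, _, T, hfp, hloc⟩ := hefp
  let Q : Ideal S₀ := (maximalIdeal A).comap (algebraMap S₀ A)
  haveI : IsLocalization.AtPrime A Q := FlatOpen.atPrime_of_fractions (B := S₀) (C := S₀) T
    fun c => ⟨c, 1, T.one_mem, by simp⟩
  have hQR : Q.comap (algebraMap R S₀) = maximalIdeal R := by
    rw [Ideal.comap_comap, ← IsScalarTower.algebraMap_eq]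
    refine le_antisymm (IsLocalRing.le_maximalIdeal fun hc => ?_) ?_
    · exact (maximalIdeal.isMaximal A).ne_top (by simpa [Ideal.comap_eq_top_iff] using hc)
    · exact Ideal.map_le_iff_le_comap.1 mA_le
  letI iM : Module S₀ M := Module.compHom M (algebraMap S₀ A)
  letI iN : Module S₀ N := Module.compHom N (algebraMap S₀ A)
  haveI : IsScalarTower S₀ A M := IsScalarTower.of_algebraMap_smul fun _ _ => rfl
  haveI : IsScalarTower S₀ A N := IsScalarTower.of_algebraMap_smul fun _ _ => rfl
  haveI : IsScalarTower R S₀ M := IsScalarTower.of_algebraMap_smul fun r x => by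
    rw [← IsScalarTower.algebraMap_smul A (algebraMap R S₀ r), ← IsScalarTower.algebraMap_apply,
      IsScalarTower.algebraMap_smul]
  obtain ⟨M₀, _, _, gM, hM₀, hgM⟩ := FlatOpen.exists_fp_localized (C := S₀) (A := A) Q.primeCompl M
  obtain ⟨N₀, _, _, gN, hN₀, hgN⟩ := FlatOpen.exists_fp_localized (C := S₀) (A := A) Q.primeCompl N
  letI : Module R N₀ := Module.compHom N₀ (algebraMap R S₀)
  haveI : IsScalarTower R S₀ N₀ := IsScalarTower.of_algebraMap_smul fun _ _ => rfl
  letI : Module R M₀ := Module.compHom M₀ (algebraMap R S₀)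
  haveI : IsScalarTower R S₀ M₀ := IsScalarTower.of_algebraMap_smul fun _ _ => rfl
  obtain ⟨φ, s, hφ⟩ := Module.FinitePresentation.exists_lift_of_isLocalizedModule Q.primeCompl gM
    ((u.restrictScalars S₀).comp gN)
  have hφ' : ∀ m, gM (φ m) = algebraMap S₀ A s • u (gN m) := fun m => by
    rw [algebraMap_smul]
    exact LinearMap.congr_fun hφ m
  have hunit : ∀ t : Q.primeCompl, IsUnit (algebraMap S₀ A t) := IsLocalization.map_units A
  have hflat : FlatCA.FlatAt R Q M₀ := Module.Flat.of_linearEquiv
    ((IsLocalizedModule.iso Q.primeCompl gM).restrictScalars R)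
  have hfib : ∀ m : N₀, φ m ∈ (Q.comap (algebraMap R S₀)).map (algebraMap R S₀) • (⊤ : Submodule S₀ M₀) →
      ∃ t ∉ Q, t • m ∈ (Q.comap (algebraMap R S₀)).map (algebraMap R S₀) • (⊤ : Submodule S₀ N₀) := by
    rw [hQR]
    intro m hm
    have hIA : ∀ a ∈ (maximalIdeal R).map (algebraMap R S₀), algebraMap S₀ A a ∈ mA := fun a ha => by
      have := Ideal.mem_map_of_mem (algebraMap S₀ A) ha
      rwa [Ideal.map_map, ← IsScalarTower.algebraMap_eq] at this
    have h1 : gM (φ m) ∈ mA • (⊤ : Submodule A M) := by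
      refine Submodule.smul_induction_on (p := fun x => gM x ∈ mA • (⊤ : Submodule A M)) hm ?_ ?_
      · intro a ha x _
        rw [map_smul, ← algebraMap_smul A a (gM x)]
        exact Submodule.smul_mem_smul (hIA a ha) trivial
      · intro x y hx hy
        rw [map_add]; exact add_mem hx hy
    rw [hφ', Submodule.smul_mem_iff_of_isUnit _ (hunit s)] at h1
    have key : ∀ y ∈ mA • (⊤ : Submodule A N), ∃ t : Q.primeCompl,
        ∃ z ∈ (maximalIdeal R).map (algebraMap R S₀) • (⊤ : Submodule S₀ N₀), (t : S₀) • y = gN z := by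
      intro y hy
      refine Submodule.smul_induction_on hy ?_ ?_
      · intro a ha x _
        obtain ⟨⟨z, t⟩, hzt⟩ := IsLocalizedModule.surj Q.primeCompl gN x
        rw [show mA = ((maximalIdeal R).map (algebraMap R S₀)).map (algebraMap S₀ A) from by
          rw [Ideal.map_map, ← IsScalarTower.algebraMap_eq],
          IsLocalization.mem_map_algebraMap_iff Q.primeCompl A] at ha
        obtain ⟨⟨b, t'⟩, hb⟩ := ha
        refine ⟨t' * t, (b : S₀) • z, Submodule.smul_mem_smul b.2 trivial, ?_⟩
        rw [map_smul, ← hzt, Submonoid.smul_def, Submonoid.coe_mul, mul_smul, ← algebraMap_smul A (b : S₀),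
          ← hb, mul_comm, mul_smul, algebraMap_smul, smul_comm (t : S₀) a]
      · rintro x y ⟨t, z, hz, h1⟩ ⟨t', z', hz', h2⟩
        refine ⟨t * t', (t' : S₀) • z + (t : S₀) • z', add_mem (Submodule.smul_mem _ _ hz)
          (Submodule.smul_mem _ _ hz'), ?_⟩
        rw [map_add, map_smul, map_smul, ← h1, ← h2, smul_add, Submonoid.coe_mul, mul_smul, mul_smul,
          smul_comm (t : S₀) (t' : S₀) x]
    obtain ⟨t, z, hz, htz⟩ := key _ (h _ h1)
    rw [← map_smul] at htz
    obtain ⟨t', ht'⟩ := IsLocalizedModule.exists_of_eq (S := Q.primeCompl) (f := gN) htz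
    refine ⟨t' * t, (t' * t).2, ?_⟩
    rw [mul_smul]
    change t' • (t : S₀) • m ∈ _
    rw [ht']
    exact Submodule.smul_mem _ _ hz
  obtain ⟨hcoker, hinj⟩ := FlatOpen.injective_coker_flat_of_fibEq R S₀ φ Q hflat hfib
  constructor
  · rw [← LinearMap.ker_eq_bot, LinearMap.ker_eq_bot']
    intro y hy
    obtain ⟨⟨m, t⟩, hmt⟩ := IsLocalizedModule.surj Q.primeCompl gN y
    have h0 : gM (φ m) = 0 := by
      rw [hφ', ← hmt, Submonoid.smul_def, ← algebraMap_smul A (t : S₀), map_smul, hy, smul_zero, smul_zero]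
    obtain ⟨t', ht'⟩ := IsLocalizedModule.exists_of_eq (S := Q.primeCompl) (f := gM) (h0.trans (map_zero gM).symm)
    obtain ⟨s', hs', hs'm⟩ := hinj ((t' : S₀) • m) (by rw [map_smul]; exact ht'.trans (smul_zero _))
    have h2 : gN m = 0 := by
      have h3 : algebraMap S₀ A s' • algebraMap S₀ A t' • gN m = 0 := by
        rw [algebraMap_smul, algebraMap_smul, ← map_smul, ← map_smul, hs'm, map_zero]
      rwa [(hunit ⟨s', hs'⟩).smul_eq_zero, (hunit t').smul_eq_zero] at h3
    rw [h2, Submonoid.smul_def, ← algebraMap_smul A (t : S₀), (hunit t).smul_eq_zero] at hmt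
    exact hmt
  · let π : (M₀ ⧸ LinearMap.range φ) →ₗ[S₀] (M ⧸ LinearMap.range u) :=
      Submodule.liftQ _ (((LinearMap.range u).mkQ.restrictScalars S₀).comp gM) <| by
        rintro _ ⟨m, rfl⟩
        refine (Submodule.Quotient.mk_eq_zero _).2 ?_
        rw [hφ']
        exact Submodule.smul_mem _ _ ⟨_, rfl⟩
    haveI : IsLocalizedModule Q.primeCompl π := by
      constructor
      · intro t
        rw [Module.End.isUnit_iff]
        have hb := (hunit t).smul_bijective (β := M ⧸ LinearMap.range u)
        convert hb using 1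
        ext x
        exact (algebraMap_smul A (t : S₀) x).symm
      · intro y
        obtain ⟨y, rfl⟩ := Submodule.mkQ_surjective _ y
        obtain ⟨⟨x, t⟩, hxt⟩ := IsLocalizedModule.surj Q.primeCompl gM y
        refine ⟨(Submodule.Quotient.mk x, t), ?_⟩
        rw [Submonoid.smul_def] at hxt ⊢
        exact (((LinearMap.range u).mkQ.restrictScalars S₀).map_smul _ _).symm.trans (congrArg _ hxt)
      · intro x₁ x₂ hx
        obtain ⟨x₁, rfl⟩ := Submodule.mkQ_surjective _ x₁
        obtain ⟨x₂, rfl⟩ := Submodule.mkQ_surjective _ x₂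
        obtain ⟨z, hz⟩ := (Submodule.Quotient.eq _).1 hx
        obtain ⟨⟨m, t⟩, hmt⟩ := IsLocalizedModule.surj Q.primeCompl gN z
        have h3 : gM (φ m) = gM ((s : S₀) • (t : S₀) • (x₁ - x₂)) := by
          rw [hφ', ← hmt, Submonoid.smul_def, ← algebraMap_smul A (t : S₀), map_smul, hz, algebraMap_smul,
            algebraMap_smul, map_smul, map_smul, map_sub]
        obtain ⟨t', ht'⟩ := IsLocalizedModule.exists_of_eq (S := Q.primeCompl) (f := gM) h3
        refine ⟨t' * s * t, ?_⟩
        simp only [Submonoid.smul_def]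
        rw [Submodule.mkQ_apply, Submodule.mkQ_apply, ← Submodule.Quotient.mk_smul,
          ← Submodule.Quotient.mk_smul, Submodule.Quotient.eq, ← smul_sub, Submonoid.coe_mul,
          Submonoid.coe_mul, mul_smul, mul_smul]
        rw [Submonoid.smul_def, Submonoid.smul_def] at ht'
        rw [← ht', ← map_smul]
        exact ⟨_, rfl⟩
    haveI : Module.Flat R (LocalizedModule Q.primeCompl (M₀ ⧸ LinearMap.range φ)) := hcoker
    exact Module.Flat.of_linearEquiv
      ((IsLocalizedModule.iso Q.primeCompl π).restrictScalars R).symm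

end Groth.Agent.DRing.KoszulLift
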