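import Groth.Agent.DRing.KoszulLift.Resolution
import Groth.Agent.DRing.BCCmp.Universal
import Groth.Agent.DRing.Minimal
import Groth.Agent.KoszulWiebe.Kos
import Groth.Agent.KoszulWiebe.Regular
import Groth.Agent.KosCone.Basic

/-!
# Perfect complexes whose closed fibre is a Koszul complex
-/

set_option autoImplicit false
universe u
attribute [local instance] HasDerivedCategory.standard
open IsLocalRing Function CategoryTheory CategoryTheory.Limits DerivedCategory

namespace Groth.Agent.DRing.KoszulLift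

open RingTheory.Sequence Homology DBasic

variable {B : Type u} [CommRing B]

lemma isKProjective_koszul (l : List B) : (Koszul.koszul B l).IsKProjective :=
  DBasic.isKProjective_of_projective _ 0 (fun i hi => KosCone.Basic.isZero_X l i (Or.inl hi))
    fun i => (IsProjective.iff_projective _).2 (KoszulWiebe.projective_X l i)

/-- Two complexes acyclic outside degree zero with the same `H⁰` are isomorphic in `D(B)`. -/
theorem nonempty_iso_of_homology {X Y : DRing.Cx B} (hX : ∀ i ≠ 0, IsZero (X.homology i))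
    (hY : ∀ i ≠ 0, IsZero (Y.homology i)) (e : X.homology 0 ≅ Y.homology 0) :
    Nonempty (DRing.toD X ≅ DRing.toD Y) := by
  have key : ∀ Z : DRing.Cx B, (∀ i ≠ 0, IsZero (Z.homology i)) →
      Nonempty (DRing.toD Z ≅ (DerivedCategory.singleFunctor (ModuleCat.{u} B) 0).obj (Z.homology 0)) := by
    intro Z hZ
    have h : ∀ i ≠ 0, IsZero ((HF i).obj (DRing.toD Z)) := fun i hi => (hZ i hi).of_iso (hIso Z i)
    haveI : (DRing.toD Z).IsLE 0 := (DerivedCategory.isLE_iff _ _).2 fun i hi => h i (by omega)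
    haveI : (DRing.toD Z).IsGE 0 := (DerivedCategory.isGE_iff _ _).2 fun i hi => h i (by omega)
    obtain ⟨M, ⟨eM⟩⟩ := exists_iso_singleFunctor_obj_of_isGE_of_isLE (DRing.toD Z) 0
    have e0 : Z.homology 0 ≅ M := (hIso Z 0).symm ≪≫ (HF 0).mapIso eM ≪≫
      (DerivedCategory.singleFunctorCompHomologyFunctorIso (ModuleCat.{u} B) 0).app M
    exact ⟨eM ≪≫ (DerivedCategory.singleFunctor _ 0).mapIso e0.symm⟩
  obtain ⟨a⟩ := key X hX
  obtain ⟨b⟩ := key Y hY
  exact ⟨a ≪≫ (DerivedCategory.singleFunctor _ 0).mapIso e ≪≫ b.symm⟩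

variable {R A : Type u} [CommRing R] [IsLocalRing R] [CommRing A] [IsLocalRing A] [Algebra R A]
  [IsLocalHom (algebraMap R A)]

/-- The extension of the maximal ideal of the base. -/
local notation "mA" => Ideal.map (algebraMap R A) (IsLocalRing.maximalIdeal R)

lemma unit_surjective_ker (I : Ideal A) (M : ModuleCat.{u} A) :
    Surjective ((ModuleCat.extendRestrictScalarsAdj.{u} (Ideal.Quotient.mk I)).unit.app M).hom ∧
    ∀ x : M, ((ModuleCat.extendRestrictScalarsAdj.{u} (Ideal.Quotient.mk I)).unit.app M).hom x = 0 ↔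
      x ∈ I • (⊤ : Submodule A M) := by
  let E := TensorProduct.quotTensorEquivQuotSMul M I
  refine ⟨fun y => ?_, fun x => ?_⟩
  · obtain ⟨x, hx⟩ := Submodule.mkQ_surjective _ (E y)
    refine ⟨x, ?_⟩
    change (1 : A ⧸ I) ⊗ₜ[A] x = y
    refine E.injective ?_
    rw [← hx]
    rw [← map_one (Ideal.Quotient.mk I), TensorProduct.quotTensorEquivQuotSMul_mk_tmul, one_smul]
    rfl
  · change (1 : A ⧸ I) ⊗ₜ[A] x = 0 ↔ _
    rw [← E.map_eq_zero_iff, ← map_one (Ideal.Quotient.mk I),
      TensorProduct.quotTensorEquivQuotSMul_mk_tmul, one_smul, Submodule.Quotient.mk_eq_zero]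

/-- A minimal representative of `K` vanishes where its fibre Koszul complex does. -/
theorem isZero_X_of_fibre {fbar : List (A ⧸ mA)} {P : DRing.Cx A} [DRing.HasLBaseChange (residue A)]
    {K : Dual.D A} (hP : Minimal.IsMinimal K P)
    (β : (LTensor.extCx (Ideal.Quotient.mk mA)).obj P ⟶ Koszul.koszul (A ⧸ mA) fbar) [QuasiIso β]
    (i : ℤ) (hi : 0 < i ∨ i < -(fbar.length : ℤ)) : IsZero (P.X i) := by
  obtain ⟨⟨b, hb⟩, hfree, ⟨e⟩⟩ := hP
  have hp : ∀ i, Module.Projective A (P.X i) := fun i => have := (hfree i).1; inferInstance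
  haveI : P.IsKProjective := DBasic.isKProjective_of_projective P b hb hp
  haveI := DerComplete.isKProjective_extCx (Ideal.Quotient.mk mA) P
  haveI := isKProjective_koszul fbar
  let ψ : A ⧸ mA →+* ResidueField A := Ideal.Quotient.factor (mA_le (R := R))
  have hψ : residue A = ψ.comp (Ideal.Quotient.mk mA) := RingHom.ext fun _ => rfl
  let c : (LTensor.extCx (residue A)).obj P ≅ (LTensor.extCx ψ).obj ((LTensor.extCx (Ideal.Quotient.mk mA)).obj P) :=
    (NatIso.mapHomologicalComplex (eqToIso (by rw [hψ]) ≪≫ ModuleCat.extendScalarsComp.{u} (Ideal.Quotient.mk mA) ψ)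
      (ComplexShape.up ℤ)).app P
  haveI := Minimal.quasiIso_extCx_of_kproj ψ β
  have hz : IsZero (((LTensor.extCx (residue A)).obj P).homology i) :=
    ((ShortComplex.isZero_homology_of_isZero_X₂ _ (Perfect.isZero_extCx ψ (KosCone.Basic.isZero_X fbar i hi))).of_iso
      (isoOfQuasiIsoAt ((LTensor.extCx ψ).map β) i)).of_iso
        ((HomologicalComplex.homologyFunctor _ _ i).mapIso c)
  haveI := ModuleCat.subsingleton_of_isZero hz
  have hd := (hfree i).2.2
  rw [(Minimal.nonempty_fibre b hb hp e i).some.finrank_eq] at hd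
  replace hd := hd.trans Module.finrank_zero_of_subsingleton
  haveI := (hfree i).1
  haveI := (hfree i).2.1
  haveI : Subsingleton (P.X i) := (Module.finrank_eq_zero_iff_of_free A _).1 hd
  exact ModuleCat.isZero_of_subsingleton _

/-- The Koszul lifting theorem. -/
theorem main [Module.Flat R A] (hefp : CAlgX.IsEssFinitePresentation R A) (fbar : List (A ⧸ mA))
    (hrev : IsWeaklyRegular (A ⧸ mA) fbar.reverse) (hmem : ∀ f ∈ fbar, f ∈ (maximalIdeal A).map (Ideal.Quotient.mk mA))
    (K : Dual.D A) (hK : DRing.IsPerfect A K) [DRing.HasLBaseChange (Ideal.Quotient.mk mA)]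
    (hKf : (DRing.LBaseChange (Ideal.Quotient.mk mA)).obj K ≅ DRing.toD (Koszul.koszul (A ⧸ mA) fbar)) :
    ∃ fs : List A, fs.map (Ideal.Quotient.mk mA) = fbar ∧ IsWeaklyRegular A fs.reverse ∧
      (∀ a ∈ fs, a ∈ maximalIdeal A) ∧
      Nonempty (K ≅ DRing.toD (Koszul.koszul A fs)) ∧ Module.Flat R (A ⧸ Ideal.ofList fs) := by
  haveI := LTensor.hasLBaseChange (residue A)
  obtain ⟨P, hP⟩ := Minimal.exists_minimal K ((Perfect.perfect_iff K).1 hK).1
  obtain ⟨⟨b, hb⟩, hfree, ⟨e⟩⟩ := id hP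
  have hp : ∀ i, Module.Projective A (P.X i) := fun i => have := (hfree i).1; inferInstance
  haveI : P.IsKProjective := DBasic.isKProjective_of_projective P b hb hp
  haveI := DerComplete.isKProjective_extCx (Ideal.Quotient.mk mA) P
  let φ := Perfect.baseChangeIsoOfRep (Ideal.Quotient.mk mA) (TorAmp.isKFlat_of_projective hb hp) e ≪≫ hKf
  obtain ⟨β, hβ⟩ := DBasic.exists_Q_map_eq φ.hom
  haveI : QuasiIso β := (isIso_Q_map_iff_quasiIso _ β).1 (by rw [hβ]; infer_instance)
  have hz := isZero_X_of_fibre hP β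
  have hacyc := KoszulWiebe.acyclic_of_isWeaklyRegular_reverse fbar hrev
  let P' := (LTensor.extCx (Ideal.Quotient.mk mA)).obj P
  have hP' : ∀ i ≠ 0, P'.ExactAt i := fun i hi => (P'.exactAt_iff_isZero_homology i).2
    ((hacyc i hi).of_iso (asIso (HomologicalComplex.homologyMap β i)))
  let η := BCCmp.unitCx (Ideal.Quotient.mk mA) P
  let η0 : ∀ i, P.X i → P'.X i := fun i x => (η.f i).hom x
  have hη := fun i => unit_surjective_ker mA (P.X i)
  have hs : ∀ i (w : P'.X i), ∃ x, η0 i x = w := fun i => (hη i).1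
  have hker : ∀ i x, η0 i x = 0 ↔ x ∈ mA • (⊤ : Submodule A (P.X i)) := fun i => (hη i).2
  have hadd : ∀ i x y, η0 i (x + y) = η0 i x + η0 i y := fun i x y => map_add (η.f i).hom x y
  have hsub : ∀ i x y, η0 i (x - y) = η0 i x - η0 i y := fun i x y => map_sub (η.f i).hom x y
  have hsmul : ∀ i (a : A) x, η0 i (a • x) = Ideal.Quotient.mk mA a • η0 i x :=
    fun i a x => map_smul (η.f i).hom a x
  have hηd : ∀ i j x, η0 j ((P.d i j).hom x) = (P'.d i j).hom (η0 i x) := fun i j x => (hom_d η i j x).symm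
  -- exactness on the fibre
  have hfib : ∀ i < (0 : ℤ), ∀ x : P.X i, (P.d i (i + 1)).hom x ∈ mA • (⊤ : Submodule A (P.X (i + 1))) →
      x ∈ LinearMap.range (P.d (i - 1) i).hom ⊔ mA • (⊤ : Submodule A (P.X i)) := by
    intro i hi x hx
    have hcyc : IsCyc P' i (η0 i x) := (hηd _ _ x).symm.trans ((hker (i + 1) _).2 hx)
    obtain ⟨w, hw⟩ := (exactAt_iff_forall i (i - 1) (by omega)).1 (hP' i (by omega)) _ hcyc
    obtain ⟨y, hy⟩ := hs (i - 1) w
    refine Submodule.mem_sup.2 ⟨_, ⟨y, rfl⟩, x - (P.d (i - 1) i).hom y, (hker i _).1 ?_, by abel⟩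
    rw [hsub, hηd, hy, hw, sub_self]
  obtain ⟨hexact, hflat0⟩ := exact_of_fibre hefp P (-(fbar.length : ℤ))
    (fun i hi => hz i (Or.inr hi)) (fun i => ⟨(hfree i).1, (hfree i).2.1⟩) hfib
  -- the generator of `H⁰`
  haveI : Subsingleton (P.X (0 + 1)) := ModuleCat.subsingleton_of_isZero (hz _ (Or.inl (by omega)))
  have hcyc0 : ∀ x : P.X 0, IsCyc P 0 x := fun x => Subsingleton.elim _ _
  haveI : Subsingleton (P'.X (0 + 1)) := ModuleCat.subsingleton_of_isZero
    (Perfect.isZero_extCx _ (hz _ (Or.inl (by omega))))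
  have hcyc0' : ∀ x : P'.X 0, IsCyc P' 0 x := fun x => Subsingleton.elim _ _
  obtain ⟨π, hπs, hπk⟩ := KosCone.Basic.exists_toH0 fbar
  let e0 := (asIso (HomologicalComplex.homologyMap β 0)).toLinearEquiv
  obtain ⟨g', hgc, hg'⟩ := cls_surjective (e0.symm (π 1))
  obtain ⟨g, rfl⟩ := hs 0 g'
  let C := LinearMap.range (P.d (0 - 1) 0).hom
  have hclsg : ∀ a : A, cls (η0 0 (a • g)) (hcyc0' _) = e0.symm (π (Ideal.Quotient.mk mA a)) := by
    intro a
    have h1 : cls (η0 0 (a • g)) (hcyc0' _) = Ideal.Quotient.mk mA a • cls (η0 0 g) (hcyc0' _) := by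
      rw [← cls_smul (hcyc0' _)]
      congr 1
      exact hsmul 0 a g
    rw [h1, hg', ← map_smul, ← map_smul, smul_eq_mul, mul_one]
  have hmemC : ∀ x y : P.X 0, cls (η0 0 x) (hcyc0' _) = cls (η0 0 y) (hcyc0' _) →
      x - y ∈ C ⊔ mA • (⊤ : Submodule A (P.X 0)) := by
    intro x y h1
    obtain ⟨w, hw⟩ := (cls_eq_iff (0 - 1) (by omega) _ _).1 h1
    obtain ⟨z, hz'⟩ := hs (0 - 1) w
    refine Submodule.mem_sup.2 ⟨_, ⟨z, rfl⟩, x - y - (P.d (0 - 1) 0).hom z, (hker 0 _).1 ?_, by abel⟩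
    rw [hsub, hsub, hηd, hz', hw, sub_self]
  have hgen : ∀ x : P.X 0, ∃ a : A, x - a • g ∈ C ⊔ mA • (⊤ : Submodule A (P.X 0)) := by
    intro x
    obtain ⟨c, hc⟩ := hπs (e0 (cls (η0 0 x) (hcyc0' _)))
    obtain ⟨a, rfl⟩ := Ideal.Quotient.mk_surjective c
    exact ⟨a, hmemC _ _ (by rw [hclsg, hc, LinearEquiv.symm_apply_apply])⟩
  have hkill : ∀ a : A, a • g ∈ C ⊔ mA • (⊤ : Submodule A (P.X 0)) →
      Ideal.Quotient.mk mA a ∈ Ideal.ofList fbar := by
    intro a ha
    obtain ⟨_, ⟨y, rfl⟩, z, hz', hsum⟩ := Submodule.mem_sup.1 ha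
    have h1 : cls (η0 0 (a • g)) (hcyc0' _) = 0 := by
      refine (cls_eq_zero_iff (0 - 1) (by omega) _).2 ⟨η0 (0 - 1) y, ?_⟩
      rw [← hηd, ← hsum, hadd, (hker 0 z).2 hz', add_zero]
    rw [hclsg, LinearEquiv.map_eq_zero_iff] at h1
    rw [← hπk]
    exact h1
  have hkill' : ∀ a : A, Ideal.Quotient.mk mA a ∈ Ideal.ofList fbar →
      a • g ∈ C ⊔ mA • (⊤ : Submodule A (P.X 0)) := by
    intro a ha
    rw [← hπk] at ha
    have h2 := hmemC (a • g) ((0 : A) • g) (by
      rw [hclsg, hclsg, show π (Ideal.Quotient.mk mA a) = 0 from ha]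
      simp)
    rwa [zero_smul, sub_zero] at h2
  let ε : A →ₗ[A] (P.X 0 ⧸ C) := LinearMap.toSpanSingleton A _ (C.mkQ g)
  haveI : Module.Finite A (P.X 0) := (hfree 0).2.1
  haveI : Module.Projective A (P.X 0) := hp 0
  have hεs : Surjective ε := by
    rw [← LinearMap.range_eq_top, LinearMap.range_toSpanSingleton, eq_top_iff]
    refine Submodule.le_of_le_smul_of_le_jacobson_bot (I := mA) Module.Finite.fg_top
      ((mA_le (R := R)).trans (IsLocalRing.maximalIdeal_le_jacobson ⊥)) fun x _ => ?_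
    obtain ⟨x, rfl⟩ := C.mkQ_surjective x
    obtain ⟨a, ha⟩ := hgen x
    have h2 := Submodule.mem_map_of_mem (f := C.mkQ) ha
    rw [Submodule.map_sup, Submodule.mkQ_map_self, bot_sup_eq, Submodule.map_smul'', Submodule.map_top,
      Submodule.range_mkQ, map_sub, map_smul] at h2
    exact Submodule.mem_sup.2 ⟨a • C.mkQ g, Submodule.smul_mem _ _ (Submodule.mem_span_singleton_self _), _, h2,
      by abel⟩
  let I : Ideal A := LinearMap.ker ε
  have hεI : ∀ a, a ∈ I ↔ a • g ∈ C := fun a => by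
    simp [I, ε, ← Submodule.Quotient.mk_smul, Submodule.Quotient.mk_eq_zero]
  let eI : (P.X 0 ⧸ C) ≃ₗ[A] A ⧸ I := (ε.quotKerEquivOfSurjective hεs).symm
  haveI := hflat0 I eI
  haveI : Module.FinitePresentation A (P.X 0) := Module.finitePresentation_of_projective A _
  haveI : Module.FinitePresentation A (P.X 0 ⧸ C) :=
    Module.finitePresentation_of_surjective _ C.mkQ_surjective (by
      rw [Submodule.ker_mkQ, show C = Submodule.map (P.d (0 - 1) 0).hom ⊤ from LinearMap.range_eq_map _]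
      haveI : Module.Finite A (P.X (0 - 1)) := (hfree _).2.1
      exact Module.Finite.fg_top.map _)
  have hIfg : I.FG := Module.FinitePresentation.fg_ker ε hεs
  -- choice of lifts inside `I`
  have hlift : ∀ c ∈ Ideal.ofList fbar, ∃ a ∈ I, Ideal.Quotient.mk mA a = c := by
    intro c hc
    obtain ⟨a, rfl⟩ := Ideal.Quotient.mk_surjective c
    have h2 := Submodule.mem_map_of_mem (f := C.mkQ) (hkill' a hc)
    rw [Submodule.map_sup, Submodule.mkQ_map_self, bot_sup_eq, Submodule.map_smul'', Submodule.map_top,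
      Submodule.range_mkQ] at h2
    have h3 : C.mkQ (a • g) ∈ Submodule.map ε (mA • ⊤ : Submodule A A) := by
      rwa [Submodule.map_smul'', Submodule.map_top, LinearMap.range_eq_top.2 hεs]
    obtain ⟨r, hr, hr'⟩ := h3
    refine ⟨a - r, ?_, ?_⟩
    · change ε (a - r) = 0
      rw [map_sub, hr', sub_eq_zero]
      simp [ε]
    · rw [map_sub, show Ideal.Quotient.mk mA r = 0 from
        Ideal.Quotient.eq_zero_iff_mem.2 (by simpa [smul_eq_mul, Ideal.mul_top] using hr), sub_zero]
  choose lift hliftI hliftmk using hlift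
  let fs : List A := fbar.attach.map fun c => lift c.1 (Ideal.subset_span c.2)
  have hfs : fs.map (Ideal.Quotient.mk mA) = fbar := by
    simp only [fs, List.map_map]
    conv_rhs => rw [← List.attach_map_subtype_val fbar]
    exact List.map_congr_left fun c _ => hliftmk _ _
  have hJI : Ideal.ofList fs ≤ I := by
    rw [Ideal.ofList, Ideal.span_le]
    intro a ha
    obtain ⟨c, -, rfl⟩ := List.mem_map.1 ha
    exact hliftI _ _
  have hIJ : I ≤ Ideal.ofList fs ⊔ mA := fun a ha => by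
    rw [← mk_mem_iff, Ideal.map_ofList, hfs]
    exact hkill a (Submodule.mem_sup_left ((hεI a).1 ha))
  have hI : I = Ideal.ofList fs := eq_of_le_of_fibre hJI hIfg hIJ
  obtain ⟨hreg, -⟩ := regular_of_fibre hefp fs.reverse (by rw [List.map_reverse, hfs]; exact hrev)
  refine ⟨fs, hfs, hreg, fun a ha => ?_, ?_, ?_⟩
  · have h2 := hmem (Ideal.Quotient.mk mA a) (hfs ▸ List.mem_map_of_mem ha)
    obtain ⟨m, hm, hmeq⟩ := (Ideal.mem_map_iff_of_surjective _ Ideal.Quotient.mk_surjective).1 h2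
    rw [show a = m - (m - a) by ring]
    exact sub_mem hm (mA_le (R := R) (Ideal.Quotient.eq.1 hmeq))
  · obtain ⟨π', hπs', hπk'⟩ := KosCone.Basic.exists_toH0 fs
    let clsL : P.X 0 →ₗ[A] P.homology 0 :=
      { toFun := fun x => cls x (hcyc0 x)
        map_add' := fun x y => cls_add (hcyc0 x) (hcyc0 y)
        map_smul' := fun a x => cls_smul (hcyc0 x) a }
    have hclsk : LinearMap.ker clsL = C := by
      ext x
      exact (cls_eq_zero_iff (0 - 1) (by omega) (hcyc0 x)).trans Iff.rfl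
    have hclss : Surjective clsL := fun y => by
      obtain ⟨x, hxc, hx⟩ := cls_surjective y
      exact ⟨x, hx⟩
    let eH : P.homology 0 ≅ (Koszul.koszul A fs).homology 0 :=
      ((clsL.quotKerEquivOfSurjective hclss).symm ≪≫ₗ Submodule.quotEquivOfEq _ _ hclsk ≪≫ₗ eI ≪≫ₗ
        Submodule.quotEquivOfEq _ _ (hI.trans hπk'.symm) ≪≫ₗ π'.quotKerEquivOfSurjective hπs').toModuleIso
    have hPz : ∀ i ≠ (0 : ℤ), IsZero (P.homology i) := fun i hi => by
      rcases lt_or_gt_of_ne hi with h | h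
      · exact (P.exactAt_iff_isZero_homology i).1 (hexact i h)
      · exact ShortComplex.isZero_homology_of_isZero_X₂ _ (hz i (Or.inl h))
    obtain ⟨iso⟩ := nonempty_iso_of_homology hPz
      (KoszulWiebe.acyclic_of_isWeaklyRegular_reverse fs hreg) eH
    exact ⟨e.symm ≪≫ iso⟩
  · rw [← hI]
    infer_instance

end Groth.Agent.DRing.KoszulLift
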