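import Groth.Prelude.Def_CAlgX
import Mathlib.RingTheory.FiniteType
import Mathlib.RingTheory.EssentialFiniteness
import Mathlib.RingTheory.LocalRing.ResidueField.Basic
import Mathlib.RingTheory.Localization.Basic
import Mathlib.RingTheory.TensorProduct.Maps
import Mathlib.RingTheory.TensorProduct.Finite

/-!
# The closed fibre of an algebra essentially of finite presentation is Noetherian
-/

set_option autoImplicit false
universe u
open IsLocalRing

namespace Groth.Agent.DRing.KoszulLift

variable {R A : Type u} [CommRing R] [IsLocalRing R] [CommRing A] [Algebra R A]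

theorem isNoetherianRing_fibre (hefp : CAlgX.IsEssFinitePresentation R A) :
    IsNoetherianRing (A ⧸ (maximalIdeal R).map (algebraMap R A)) := by
  obtain ⟨S₀, _, _, _, _, T, hfp, hloc⟩ := hefp
  let B := A ⧸ (maximalIdeal R).map (algebraMap R A)
  let k : ResidueField R →ₐ[R] B := Ideal.Quotient.liftₐ (maximalIdeal R) (Algebra.ofId R B) fun r hr => by
    change algebraMap R B r = 0
    rw [IsScalarTower.algebraMap_apply R A B, Ideal.Quotient.algebraMap_eq, Ideal.Quotient.eq_zero_iff_mem]
    exact Ideal.mem_map_of_mem _ hr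
  let g : S₀ →ₐ[R] B := (Ideal.Quotient.mkₐ R _).comp (IsScalarTower.toAlgHom R S₀ A)
  haveI := hfp
  obtain ⟨n, f, hf⟩ := Algebra.FiniteType.iff_quotient_mvPolynomial''.1 (inferInstance : Algebra.FiniteType R S₀)
  let ψ : MvPolynomial (Fin n) (ResidueField R) →+* B := MvPolynomial.eval₂Hom k.toRingHom fun i => g (f (MvPolynomial.X i))
  have hψ : ∀ p, ψ (MvPolynomial.map (residue R) p) = g (f p) := fun p => by
    refine RingHom.congr_fun (f := ψ.comp (MvPolynomial.map (residue R))) (g := (g.comp f).toRingHom)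
      (MvPolynomial.ringHom_ext (fun r => ?_) fun i => ?_) p
    · simp [ψ, k, g, IsScalarTower.algebraMap_apply R S₀ A]
      rfl
    · simp [ψ]
  rw [isNoetherianRing_iff_ideal_fg]
  intro J
  suffices h : J = (J.comap ψ).map ψ by
    rw [h]; exact Ideal.FG.map (IsNoetherian.noetherian (J.comap ψ)) _
  refine le_antisymm (fun x hx => ?_) Ideal.map_comap_le
  obtain ⟨a, rfl⟩ := Ideal.Quotient.mk_surjective x
  obtain ⟨⟨s, t⟩, hst⟩ := IsLocalization.surj T a
  have hu : IsUnit (Ideal.Quotient.mk ((maximalIdeal R).map (algebraMap R A)) (algebraMap S₀ A t)) :=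
    (IsLocalization.map_units A t).map _
  rw [← Ideal.unit_mul_mem_iff_mem _ hu, mul_comm, ← map_mul, hst]
  obtain ⟨p, rfl⟩ := hf s
  have h1 : ψ (MvPolynomial.map (residue R) p) = Ideal.Quotient.mk _ (algebraMap S₀ A (f p)) := hψ p
  rw [← h1]
  refine Ideal.mem_map_of_mem ψ ?_
  change ψ (MvPolynomial.map (residue R) p) ∈ J
  rw [h1, ← hst, map_mul]
  exact J.mul_mem_right _ hx

end Groth.Agent.DRing.KoszulLift
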