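import Groth.Agent.DRing.KoszulLift.Crit
import Groth.Agent.DRing.DBasic
import Mathlib.RingTheory.Regular.RegularSequence
import Mathlib.RingTheory.Flat.EquationalCriterion
import Mathlib.RingTheory.Flat.Stability

/-!
# Regular sequences and resolutions from the closed fibre
-/

set_option autoImplicit false
universe u
open IsLocalRing Function CategoryTheory CategoryTheory.Limits
open scoped Pointwise

namespace Groth.Agent.DRing.KoszulLift

open RingTheory.Sequence Homology

variable {R A : Type u} [CommRing R] [IsLocalRing R] [CommRing A] [IsLocalRing A] [Algebra R A]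
  [IsLocalHom (algebraMap R A)] [Module.Flat R A]

/-- The extension of the maximal ideal of the base. -/
local notation "mA" => Ideal.map (algebraMap R A) (IsLocalRing.maximalIdeal R)

/-- An element of `I` and of `mA` is in `mA • I` when `A/I` is flat over `R`. -/
theorem mem_mul_of_flat (I : Ideal A) [Module.Flat R (A ⧸ I)] {a : A} (ha : a ∈ I) (ha' : a ∈ mA) :
    a ∈ mA * I := by
  classical
  have ha'' : a ∈ Ideal.span ((algebraMap R A) '' (maximalIdeal R : Set R)) := ha'
  obtain ⟨c, hc, g, hg⟩ := Submodule.mem_span_image_iff_exists_fun A |>.1 ha''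
  have h0 : ∑ i : c, (i : R) • Ideal.Quotient.mk I (g i) = 0 := by
    rw [← Ideal.Quotient.eq_zero_iff_mem] at ha
    rw [← ha, ← hg, map_sum]
    refine Finset.sum_congr rfl fun i _ => ?_
    rw [smul_eq_mul, mul_comm, ← Algebra.smul_def, ← Ideal.Quotient.mkₐ_eq_mk R, map_smul]
  obtain ⟨k, e, y, hy, he⟩ := Module.Flat.isTrivialRelation_of_sum_smul_eq_zero (R := R) (M := A ⧸ I) h0
  choose z hz using fun j => Ideal.Quotient.mk_surjective (y j)
  have hI : ∀ i, g i - ∑ j, e i j • z j ∈ I := fun i => by
    rw [← Ideal.Quotient.eq_zero_iff_mem, map_sub, map_sum, (show Ideal.Quotient.mk I (g i) = _ from hy i), sub_eq_zero]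
    refine Finset.sum_congr rfl fun j _ => ?_
    rw [← Ideal.Quotient.mkₐ_eq_mk R, map_smul, Ideal.Quotient.mkₐ_eq_mk, hz]
  have hw : a = ∑ i : c, algebraMap R A i * (g i - ∑ j, e i j • z j) := by
    have : ∑ i : c, algebraMap R A i * ∑ j, e i j • z j = 0 := by
      simp only [Finset.mul_sum, ← Algebra.smul_def, smul_smul]
      rw [Finset.sum_comm]
      simp only [← Finset.sum_smul, he, zero_smul, Finset.sum_const_zero]
    simp only [mul_sub, Finset.sum_sub_distrib, this, sub_zero]
    rw [← hg]
    simp [mul_comm]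
  rw [hw]
  exact Ideal.sum_mem _ fun i _ => Ideal.mul_mem_mul (Ideal.mem_map_of_mem _ (hc i.2)) (hI i)

/-- Nakayama for ideals with flat quotient. -/
theorem eq_of_le_of_fibre {I J : Ideal A} (hJI : J ≤ I) (hI : I.FG) [Module.Flat R (A ⧸ I)]
    (h : I ≤ J ⊔ mA) : I = J := by
  refine le_antisymm (Submodule.le_of_le_smul_of_le_jacobson_bot (I := mA) hI
    ((mA_le (R := R)).trans (IsLocalRing.maximalIdeal_le_jacobson ⊥)) fun a ha => ?_) hJI
  obtain ⟨b, hb, c, hc, rfl⟩ := Submodule.mem_sup.1 (h ha)
  exact Submodule.add_mem_sup hb (mem_mul_of_flat I ((add_mem_cancel_left (hJI hb)).1 ha) hc)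

lemma mk_mem_iff (J : Ideal A) (a : A) :
    Ideal.Quotient.mk mA a ∈ J.map (Ideal.Quotient.mk mA) ↔ a ∈ J ⊔ mA := by
  rw [← Ideal.mem_comap, Ideal.comap_map_of_surjective _ Ideal.Quotient.mk_surjective,
    ← RingHom.ker_eq_comap_bot, Ideal.mk_ker]

/-- A sequence regular on the closed fibre is regular with flat quotient. -/
theorem regular_of_fibre (hefp : CAlgX.IsEssFinitePresentation R A) (l : List A)
    (h : IsWeaklyRegular (A ⧸ mA) (l.map (Ideal.Quotient.mk mA))) :
    IsWeaklyRegular A l ∧ Module.Flat R (A ⧸ Ideal.ofList l) := by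
  suffices H : IsWeaklyRegular A l ∧ Module.Flat R (A ⧸ (Ideal.ofList l • ⊤ : Submodule A A)) from
    ⟨H.1, have := H.2; Module.Flat.of_linearEquiv
      ((Submodule.quotEquivOfEq (Ideal.ofList l • ⊤ : Submodule A A) (Ideal.ofList l)
        (by rw [smul_eq_mul, Ideal.mul_top])).restrictScalars R).symm⟩
  induction l using List.reverseRecOn with
  | nil =>
    refine ⟨IsWeaklyRegular.nil A A, Module.Flat.of_linearEquiv (M := A) ?_⟩
    exact ((Submodule.quotEquivOfEqBot _ (by rw [Ideal.ofList_nil, Submodule.bot_smul])).restrictScalars R)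
  | append_singleton l f ih =>
    rw [List.map_append, List.map_singleton, isWeaklyRegular_append_iff, isWeaklyRegular_singleton_iff] at h
    obtain ⟨hl, hfl⟩ := ih h.1
    have := hfl
    let J : Submodule A A := Ideal.ofList l • ⊤
    have hJ : J = Ideal.ofList l := by
      change Ideal.ofList l • (⊤ : Ideal A) = _
      rw [smul_eq_mul, Ideal.mul_top]
    have : Module.FinitePresentation A (A ⧸ J) := Module.finitePresentation_of_surjective J.mkQ
      J.mkQ_surjective (by rw [Submodule.ker_mkQ, hJ]; exact Submodule.fg_span l.finite_toSet)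
    have hmem : ∀ a : A, J.mkQ a ∈ mA • (⊤ : Submodule A (A ⧸ J)) ↔ a ∈ Ideal.ofList l ⊔ mA := fun a => by
      rw [← Submodule.mem_comap, show (⊤ : Submodule A (A ⧸ J)) = (⊤ : Submodule A A).map J.mkQ from by
        rw [Submodule.map_top, Submodule.range_mkQ], ← Submodule.map_smul'', Submodule.comap_map_eq,
        Submodule.ker_mkQ, sup_comm, hJ]
      simp [smul_eq_mul, Ideal.mul_top]
    obtain ⟨hinj, hcoker⟩ := injective_coker_flat hefp (LinearMap.lsmul A (A ⧸ J) f) fun x hx => by
      obtain ⟨a, rfl⟩ := J.mkQ_surjective x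
      rw [LinearMap.lsmul_apply, ← map_smul, hmem, ← mk_mem_iff, smul_eq_mul, map_mul,
        Ideal.map_ofList] at hx
      rw [hmem, ← mk_mem_iff, Ideal.map_ofList]
      have key := h.2.right_eq_zero_of_smul
        (x := Submodule.Quotient.mk (Ideal.Quotient.mk mA a)) ?_
      · rwa [Submodule.Quotient.mk_eq_zero, smul_eq_mul, Ideal.mul_top] at key
      · rw [← Submodule.Quotient.mk_smul, Submodule.Quotient.mk_eq_zero, smul_eq_mul, smul_eq_mul,
          Ideal.mul_top]
        exact hx
    refine ⟨(isWeaklyRegular_append_iff A l [f]).2 ⟨hl, (isWeaklyRegular_singleton_iff _ f).2 hinj⟩, ?_⟩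
    let π := (LinearMap.range (LinearMap.lsmul A (A ⧸ J) f)).mkQ.comp J.mkQ
    have hπ : LinearMap.ker π = Ideal.ofList (l ++ [f]) • (⊤ : Submodule A A) := by
      rw [LinearMap.ker_comp, Submodule.ker_mkQ, smul_eq_mul, Ideal.mul_top, Ideal.ofList_append,
        Ideal.ofList_singleton]
      refine le_antisymm (fun a ha => ?_) (sup_le (fun a ha => ?_) ?_)
      · obtain ⟨y, hy⟩ := Submodule.mem_comap.1 ha
        obtain ⟨b, rfl⟩ := J.mkQ_surjective y
        rw [LinearMap.lsmul_apply, ← map_smul, Submodule.mkQ_apply, Submodule.mkQ_apply,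
          Submodule.Quotient.eq, hJ] at hy
        rw [show a = f • b - (f • b - a) by ring]
        exact sub_mem (Submodule.mem_sup_right (Ideal.mem_span_singleton'.2 ⟨b, mul_comm b f⟩))
          (Submodule.mem_sup_left hy)
      · exact ⟨0, by rw [map_zero, eq_comm, Submodule.mkQ_apply, Submodule.Quotient.mk_eq_zero, hJ]; exact ha⟩
      · rw [Ideal.span_le, Set.singleton_subset_iff]
        exact ⟨J.mkQ 1, by rw [LinearMap.lsmul_apply, ← map_smul, smul_eq_mul, mul_one]⟩
    exact Module.Flat.of_linearEquiv ((((Submodule.quotEquivOfEq _ _ hπ.symm).trans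
      (π.quotKerEquivOfSurjective ((Submodule.mkQ_surjective _).comp J.mkQ_surjective)))).restrictScalars R)

/-- A complex of finite free modules exact on the closed fibre in negative degrees is exact there,
with flat cokernel in degree zero. -/
theorem exact_of_fibre (hefp : CAlgX.IsEssFinitePresentation R A) (E : DRing.Cx A) (a : ℤ)
    (hb : ∀ i < a, IsZero (E.X i)) (hf : ∀ i, Module.Free A (E.X i) ∧ Module.Finite A (E.X i))
    (hfib : ∀ i < 0, ∀ x : E.X i, (E.d i (i + 1)).hom x ∈ mA • (⊤ : Submodule A (E.X (i + 1))) →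
      x ∈ LinearMap.range (E.d (i - 1) i).hom ⊔ mA • (⊤ : Submodule A (E.X i))) :
    (∀ i < 0, E.ExactAt i) ∧ ∀ (I : Ideal A) (_ : (E.X 0 ⧸ LinearMap.range (E.d (0 - 1) 0).hom) ≃ₗ[A] A ⧸ I),
      Module.Flat R (A ⧸ I) := by
  letI (i : ℤ) : Module R (E.X i) := Module.compHom (E.X i) (algebraMap R A)
  haveI (i : ℤ) : IsScalarTower R A (E.X i) := IsScalarTower.of_algebraMap_smul fun _ _ => rfl
  haveI (i : ℤ) : Module.Flat R (E.X i) := by
    haveI := (hf i).1
    exact Module.Flat.trans R A (E.X i)
  haveI (i : ℤ) : Module.Finite A (E.X i) := (hf i).2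
  haveI (i : ℤ) : Module.FinitePresentation A (E.X i) := by
    haveI := (hf i).1
    exact Module.finitePresentation_of_projective A (E.X i)
  have hfp : ∀ i, Module.FinitePresentation A (E.X i ⧸ LinearMap.range (E.d (i - 1) i).hom) := fun i =>
    Module.finitePresentation_of_surjective _ (Submodule.mkQ_surjective _) (by
      rw [Submodule.ker_mkQ, LinearMap.range_eq_map]
      exact Module.Finite.fg_top.map _)
  have step : ∀ i < 0, Module.Flat R (E.X i ⧸ LinearMap.range (E.d (i - 1) i).hom) →
      E.ExactAt i ∧ Module.Flat R (E.X (i + 1) ⧸ LinearMap.range (E.d i (i + 1)).hom) := by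
    intro i hi hfl
    have := hfp i
    have hd : LinearMap.range (E.d (i - 1) i).hom ≤ LinearMap.ker (E.d i (i + 1)).hom := by
      rintro _ ⟨w, rfl⟩; exact d_d _ _ _ w
    obtain ⟨hinj, hflat⟩ := injective_coker_flat hefp (Submodule.liftQ _ (E.d i (i + 1)).hom hd) fun x hx => by
      obtain ⟨x, rfl⟩ := Submodule.mkQ_surjective _ x
      have := Submodule.mem_map_of_mem (f := (LinearMap.range (E.d (i - 1) i).hom).mkQ) (hfib i hi x hx)
      rw [Submodule.map_sup, Submodule.map_smul'', Submodule.map_top, Submodule.range_mkQ,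
        Submodule.mkQ_map_self, bot_sup_eq] at this
      exact this
    refine ⟨(exactAt_iff_forall i (i - 1) (by omega)).2 fun z hz => ?_, ?_⟩
    · exact (Submodule.Quotient.mk_eq_zero _).1 (hinj (hz.trans (map_zero _).symm))
    · rwa [Submodule.range_liftQ] at hflat
  have main : ∀ n : ℕ, a - 1 + n ≤ 0 →
      Module.Flat R (E.X (a - 1 + n) ⧸ LinearMap.range (E.d (a - 1 + n - 1) (a - 1 + n)).hom) := by
    intro n
    induction n with
    | zero =>
      intro _
      haveI := ModuleCat.subsingleton_of_isZero (hb (a - 1 + (0 : ℕ)) (by omega))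
      infer_instance
    | succ n ih =>
      intro hn
      have h2 := (step _ (by omega) (ih (by omega))).2
      have key : ∀ j k : ℤ, j = a - 1 + n + 1 → k = a - 1 + n →
          Module.Flat R (E.X j ⧸ LinearMap.range (E.d k j).hom) := by
        rintro j k rfl rfl; exact h2
      exact key _ _ (by omega) (by omega)
  have hflat : ∀ i ≤ (0 : ℤ), Module.Flat R (E.X i ⧸ LinearMap.range (E.d (i - 1) i).hom) := by
    intro i hi
    by_cases h : i < a
    · haveI := ModuleCat.subsingleton_of_isZero (hb i h)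
      infer_instance
    · obtain ⟨n, rfl⟩ : ∃ n : ℕ, a - 1 + n = i := ⟨(i - (a - 1)).toNat, by omega⟩
      exact main n hi
  refine ⟨fun i hi => (step i hi (hflat i hi.le)).1, fun I e => ?_⟩
  haveI := hflat 0 le_rfl
  exact Module.Flat.of_linearEquiv (e.restrictScalars R).symm

end Groth.Agent.DRing.KoszulLift
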